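import Cfsg.Agent.R2.Spec.X1.TRd.Cl

/-!
# S3478, identification rows `PSL_m`, `PSU_m` (helper458, tasks 1845, 1846)
-/

set_option autoImplicit false

namespace Cfsg.Agent.R2.Spec.X1.TRd

open Cfsg Cfsg.Agent.R2.Spec.X1.TI Cfsg.Agent.H360.Iso Cfsg.Agent.R2.Spec.X1.TD
open Cfsg.Agent.H948.UBase Cfsg.Agent.H948.UProd

theorem mm_mod_eight {p q : ℕ} (h : Par p q) : R2.Spec.X1.TD.mm q % 8 = 1 := by
  have e := mm_eq h.hq
  obtain ⟨c, hc⟩ : Odd q := Nat.odd_iff.2 h.q_odd
  obtain ⟨d, hd⟩ := Nat.even_mul_succ_self c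
  have h1 : q ^ 2 - 1 = 8 * d := by
    rw [hc]
    have : (2 * c + 1) ^ 2 = 8 * d + 1 := by nlinarith
    omega
  rw [h1] at e
  rw [e, mul_left_comm]
  omega

/-- **`PSL_m(u)`** -/
theorem row_psl {p q : ℕ} {F : Type*} [Field F] [Fintype F] {m : ℕ} (hm : 3 ≤ m)
    (h : Sit p q (Matrix.ProjectiveSpecialLinearGroup (Fin m) F)) : False := by
  have hu2 : 2 ≤ Nat.card F := Finite.one_lt_card
  have hup : IsPrimePow (Nat.card F) := by
    rw [Nat.card_eq_fintype_card]
    exact FiniteField.isPrimePow_card F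
  have hmod := mm_mod h.par
  rcases psl_row hm (isoN h) with ⟨h1, x, hx⟩ | ⟨hd, h1, x, hx⟩
  · obtain ⟨u, hu⟩ : ∃ u, u = Nat.card F := ⟨_, rfl⟩
    rw [← hu] at h1 hx hu2 hup
    obtain ⟨g, hg⟩ : ∃ g, g = Nat.gcd m (u - 1) := ⟨_, rfl⟩
    rw [← hg] at h1 hx
    have hp1 : 1 ≤ u ^ m := Nat.one_le_pow _ _ (by omega)
    have hp2 : 1 ≤ u ^ (m - 1) := Nat.one_le_pow _ _ (by omega)
    have e1 : g * R2.Spec.X1.TD.mm q * (u - 1) + 1 = u ^ m := by
      rw [mul_comm g, h1]
      omega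
    have e2 : g * orderOf x + 1 = u ^ (m - 1) := by
      rw [mul_comm g, hx]
      omega
    have hg1 : 1 ≤ g := by
      rw [hg]
      exact Nat.gcd_pos_of_pos_left _ (by omega)
    rcases Nat.lt_or_ge 3 u with hu4 | hu4
    · exact dead_lin h.par hu4 hm hg1 e1 e2 (h.om x)
    · have hu' : u = 2 ∨ u = 3 := by omega
      rcases hu' with rfl | rfl
      · have hg' : g = 1 := by rw [hg]; simp
        rw [hg', one_mul] at e1 e2
        exact dead_plus h.par hup hm (Or.inl rfl) e1 (by rw [one_mul]; exact e2) (h.om x)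
      · rcases Nat.even_or_odd m with hme | hmo
        · exfalso
          have hg' : g = 2 := by
            rw [hg]
            exact Nat.gcd_eq_right (even_iff_two_dvd.1 hme)
          rw [hg'] at e1
          obtain ⟨c, rfl⟩ := hme
          have h9 : 3 ^ (c + c) = 9 ^ c := by
            rw [← two_mul, pow_mul]
            norm_num
          have h8 : 9 ^ c % 8 = 1 := by
            rw [Nat.pow_mod]
            norm_num
          rw [h9] at e1
          omega
        · have hg' : g = 1 := by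
            rw [hg]
            exact (Nat.coprime_two_right.2 hmo)
          rw [hg', one_mul] at e1 e2
          exact dead_plus h.par hup hm (Or.inl rfl) e1 (by rw [one_mul]; exact e2) (h.om x)
  · obtain ⟨v, hv⟩ : ∃ v, Nat.card F = v + 1 := ⟨Nat.card F - 1, by omega⟩
    rw [hv, Nat.add_sub_cancel] at h1 hx
    have hp1 : 1 ≤ (v + 1) ^ m := Nat.one_le_pow _ _ (by omega)
    have hp2 : 1 ≤ (v + 1) ^ (m - 1) := Nat.one_le_pow _ _ (by omega)
    have hv0 : (v : ℤ) ≠ 0 := by
      have : v ≠ 0 := by omega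
      exact_mod_cast this
    have e1 : (R2.Spec.X1.TD.mm q : ℤ) * v + 1 = (v + 1) ^ (m - 1) := by
      have : R2.Spec.X1.TD.mm q * v + 1 = (v + 1) ^ (m - 1) := by omega
      exact_mod_cast this
    have e2 : (orderOf x : ℤ) * v ^ 2 + 1 = (v + 1) ^ m := by
      have : orderOf x * v ^ 2 + 1 = (v + 1) ^ m := by omega
      exact_mod_cast this
    have e3 : ((v : ℤ) + 1) ^ m = (v + 1) * (v + 1) ^ (m - 1) := by
      rw [← pow_succ', Nat.sub_add_cancel (by omega)]
    refine no_above h.par (h.om x) (w := v) (s := 1) (by omega) le_rfl (by omega) (one_dvd _) ?_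
    apply mul_left_cancel₀ hv0
    linear_combination e2 - e1 + e3 - (v : ℤ) * e1 

/-- **`PSU_m(u)`** -/
theorem row_psu {p q : ℕ} {F : Type*} [Field F] [Fintype F] {m u : ℕ} (hF : Fintype.card F = u ^ 2) (hm : 3 ≤ m)
    (hne : ¬ (m = 3 ∧ u = 2)) (h : Sit p q (Cfsg.PSU m F u)) : False := by
  have hu : 2 ≤ u := LieClassical.HermBasic.two_le hF
  have hup : IsPrimePow u := by
    have h1 : IsPrimePow (Fintype.card F) := FiniteField.isPrimePow_card F
    rw [hF] at h1
    exact (isPrimePow_pow_iff two_ne_zero).1 h1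
  have hmod := mm_mod h.par
  have hmod8 := mm_mod_eight h.par
  have h73 := mm_ge h.par
  rcases psu_row hF hm hne (isoN h) with ⟨h1, x, hx⟩ | ⟨hm4, hd, h1, x, hx⟩ | ⟨-, -, h1⟩ | ⟨-, -, h1⟩
  · obtain ⟨g, hg⟩ : ∃ g, g = Nat.gcd m (u + 1) := ⟨_, rfl⟩
    rw [← hg] at h1 hx
    have hg1 : 1 ≤ g := by
      rw [hg]
      exact Nat.gcd_pos_of_pos_left _ (by omega)
    obtain ⟨s, hs⟩ : g ∣ u + 1 := hg ▸ Nat.gcd_dvd_right _ _
    have hs0 : 0 < s := by
      rcases Nat.eq_zero_or_pos s with h3 | h3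
      · rw [h3] at hs; omega
      · exact h3
    have hsu : s ≤ u + 1 := Nat.le_of_dvd (by omega) ⟨g, by rw [hs, mul_comm]⟩
    have hp1 : 1 ≤ u ^ m := Nat.one_le_pow _ _ (by omega)
    have hp2 : 1 ≤ u ^ (m - 1) := Nat.one_le_pow _ _ (by omega)
    rcases Nat.even_or_odd m with hme | hmo
    · -- `m` even
      rw [H948.UMain.ph_odd (by
        rw [Nat.not_even_iff_odd]
        obtain ⟨c, rfl⟩ := hme
        exact ⟨c - 1, by omega⟩), Nat.sub_add_cancel (by omega)] at h1
      rw [H948.UMain.ph_even (by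
        obtain ⟨c, rfl⟩ := hme
        exact ⟨c - 1, by omega⟩), show m - 2 + 1 = m - 1 by omega] at hx
      have e1 : (R2.Spec.X1.TD.mm q : ℤ) * g * (u + 1) + 1 = (u : ℤ) ^ m := by
        have : R2.Spec.X1.TD.mm q * g * (u + 1) + 1 = u ^ m := by omega
        exact_mod_cast this
      have e2 : (orderOf x : ℤ) * g = (u : ℤ) ^ (m - 1) + 1 := by exact_mod_cast hx
      have e3 : (u : ℤ) ^ m = u * (u : ℤ) ^ (m - 1) := by
        rw [← pow_succ', Nat.sub_add_cancel (by omega)]
      have e4 : (u : ℤ) + 1 = g * s := by exact_mod_cast hs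
      have hg0 : (g : ℤ) ≠ 0 := by
        have : g ≠ 0 := by omega
        exact_mod_cast this
      refine no_above h.par (h.om x) (w := u) (s := s) (by omega) (by omega) (by omega)
        ⟨(g : ℤ), by rw [e4]; ring⟩ ?_
      apply mul_left_cancel₀ hg0
      linear_combination (u : ℤ) * e2 - e1 - e3 + e4
    · -- `m` odd
      rw [H948.UMain.ph_even (by
        obtain ⟨c, rfl⟩ := hmo
        exact ⟨c, by omega⟩), Nat.sub_add_cancel (by omega)] at h1
      rw [H948.UMain.ph_odd (by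
        rw [Nat.not_even_iff_odd]
        obtain ⟨c, rfl⟩ := hmo
        exact ⟨c - 1, by omega⟩), show m - 2 + 1 = m - 1 by omega] at hx
      exact dead_uni h.par hup hm hmo hg1 (by rw [mul_comm g, h1]) (by rw [mul_comm g, hx]; omega) (h.om x)
  · have hp1 : 1 ≤ u ^ m := Nat.one_le_pow _ _ (by omega)
    have hp2 : 1 ≤ u ^ (m - 1) := Nat.one_le_pow _ _ (by omega)
    rcases Nat.even_or_odd m with hme | hmo
    · rw [H948.UMain.ph_even (by
        obtain ⟨c, rfl⟩ := hme
        exact ⟨c - 1, by omega⟩), show m - 2 + 1 = m - 1 by omega] at h1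
      obtain ⟨y, hy⟩ := exists_blockU hF (n := m) (k := m - 2) (by omega) (by omega)
      rw [H948.UMain.ph_odd (by
        rw [Nat.not_even_iff_odd]
        obtain ⟨c, rfl⟩ := hme
        exact ⟨c - 2, by omega⟩), show m - 2 - 1 + 1 = m - 2 by omega] at hy
      have hp3 : 1 ≤ u ^ (m - 2) := Nat.one_le_pow _ _ (by omega)
      refine dead_uni h.par hup (k := m - 1) (d := 1) (a := orderOf y) (by omega) ?_ le_rfl (by rw [one_mul, h1]) ?_ (h.om y)
      · obtain ⟨c, rfl⟩ := hme
        exact ⟨c - 1, by omega⟩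
      · rw [hy, show m - 1 - 1 = m - 2 by omega]
        omega
    · rw [H948.UMain.ph_odd (by
        rw [Nat.not_even_iff_odd]
        obtain ⟨c, rfl⟩ := hmo
        exact ⟨c - 1, by omega⟩), show m - 2 + 1 = m - 1 by omega] at h1
      rw [H948.UMain.ph_even (by
        obtain ⟨c, rfl⟩ := hmo
        exact ⟨c, by omega⟩), Nat.sub_add_cancel (by omega)] at hx
      rcases Nat.lt_or_ge 2 u with hu3 | hu3
      · have e1 : (R2.Spec.X1.TD.mm q : ℤ) * (u + 1) + 1 = (u : ℤ) ^ (m - 1) := by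
          have : R2.Spec.X1.TD.mm q * (u + 1) + 1 = u ^ (m - 1) := by omega
          exact_mod_cast this
        have e2 : (orderOf x : ℤ) * (u + 1) ^ 2 = (u : ℤ) ^ m + 1 := by exact_mod_cast hx
        have e3 : (u : ℤ) ^ m = u * (u : ℤ) ^ (m - 1) := by
          rw [← pow_succ', Nat.sub_add_cancel (by omega)]
        have hu0 : (u : ℤ) + 1 ≠ 0 := by omega
        refine no_below h.par (h.om x) (w := u + 1) (by omega) ?_
        apply mul_left_cancel₀ hu0
        linear_combination -e2 - e3 + (u : ℤ) * e1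
      · obtain rfl : u = 2 := by omega
        have h8 : 8 ∣ 2 ^ (m - 1) := (show (8 : ℕ) = 2 ^ 3 by norm_num) ▸ pow_dvd_pow 2 (by omega)
        omega
  · omega
  · omega

end Cfsg.Agent.R2.Spec.X1.TRd
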